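import Mathlib

/-!
# S4191 [FIX], part 1: the commutant of an operator of prime order (helper447)

`z ^ p = 1`, the field contains a primitive `p`-th root of unity: the dimension `f` of the commutant of `z` satisfies
`(p - 1) n² + (d - n)² ≤ (p - 1) f`, where `d = dim V`, `n = dim C_V(z)`.
-/

set_option autoImplicit false

namespace Cfsg.Agent.H447.RC

open Module

variable {K V : Type*} [Field K] [AddCommGroup V] [Module K V]

/-- the commutant -/
def com (z : Module.End K V) : Submodule K (Module.End K V) where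
  carrier := {T | z * T = T * z}
  zero_mem' := by simp
  add_mem' := by
    intro S T (hS : z * S = S * z) (hT : z * T = T * z)
    show z * (S + T) = (S + T) * z
    rw [mul_add, add_mul, hS, hT]
  smul_mem' := by
    intro c T (hT : z * T = T * z)
    show z * (c • T) = (c • T) * z
    rw [mul_smul_comm, smul_mul_assoc, hT]

theorem mem_com {z T : Module.End K V} : T ∈ com z ↔ z * T = T * z := Iff.rfl

/-- the eigenspaces -/
def eg (z : Module.End K V) (c : K) : Submodule K V := LinearMap.ker (z - c • 1)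

theorem mem_eg {z : Module.End K V} {c : K} {v : V} : v ∈ eg z c ↔ z v = c • v := by
  rw [eg, LinearMap.mem_ker, LinearMap.sub_apply, sub_eq_zero]
  rfl

/-- the (unnormalised) projections -/
def prj (p : ℕ) (z : Module.End K V) (c : K) : Module.End K V := ∑ j ∈ Finset.range p, (c⁻¹ • z) ^ j

variable {p : ℕ} {z : Module.End K V}

theorem prj_mem (hz : z ^ p = 1) {c : K} (hc : c ^ p = 1) (hc0 : c ≠ 0) (v : V) : prj p z c v ∈ eg z c := by
  have h1 : (c⁻¹ • z - 1) * prj p z c = 0 := by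
    rw [prj, mul_geom_sum, smul_pow, hz, inv_pow, hc, inv_one, one_smul, sub_self]
  rw [mem_eg]
  have h2 := LinearMap.congr_fun h1 v
  rw [Module.End.mul_apply, LinearMap.sub_apply, LinearMap.zero_apply, sub_eq_zero, LinearMap.smul_apply] at h2
  have h3 : c • (c⁻¹ • z (prj p z c v)) = c • prj p z c v := by rw [h2]; rfl
  rwa [smul_inv_smul₀ hc0] at h3

theorem prj_of_mem (c : K) {c' : K} {v : V} (hv : v ∈ eg z c') :
    prj p z c v = (∑ j ∈ Finset.range p, (c⁻¹ * c') ^ j) • v := by
  have h1 : ∀ j : ℕ, ((c⁻¹ • z) ^ j) v = (c⁻¹ * c') ^ j • v := by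
    intro j
    induction j with
    | zero => simp
    | succ j ih =>
      rw [pow_succ', Module.End.mul_apply, ih, map_smul, LinearMap.smul_apply, mem_eg.1 hv, smul_smul, smul_smul,
        pow_succ, mul_assoc]
  rw [prj, LinearMap.sum_apply, Finset.sum_smul]
  exact Finset.sum_congr rfl fun j _ => h1 j

theorem prj_self {c : K} (hc0 : c ≠ 0) {v : V} (hv : v ∈ eg z c) : prj p z c v = (p : K) • v := by
  rw [prj_of_mem c hv, inv_mul_cancel₀ hc0]
  simp

theorem prj_other {c c' : K} (hc : c ^ p = 1) (hc' : c' ^ p = 1) (hc0 : c ≠ 0) (h : c ≠ c') {v : V} (hv : v ∈ eg z c') :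
    prj p z c v = 0 := by
  rw [prj_of_mem c hv]
  have h3 : (c⁻¹ * c' - 1) * ∑ j ∈ Finset.range p, (c⁻¹ * c') ^ j = 0 := by
    rw [mul_geom_sum, mul_pow, inv_pow, hc, hc', inv_one, one_mul, sub_self]
  rcases mul_eq_zero.1 h3 with h4 | h4
  · exfalso
    apply h
    rw [sub_eq_zero, inv_mul_eq_one₀ hc0] at h4
    exact h4
  · rw [h4, zero_smul]

theorem prj_comm (c : K) : Commute (prj p z c) z := by
  refine Commute.sum_left _ _ _ fun j _ => ?_
  exact ((Commute.refl z).smul_left c⁻¹).pow_left j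

theorem prj_map {c : K} (hz : z ^ p = 1) (hc : c ^ p = 1) (hc0 : c ≠ 0) (v : V) :
    prj p z c (z v) = c • prj p z c v := by
  have h1 := LinearMap.congr_fun (prj_comm (p := p) (z := z) c).eq v
  rw [Module.End.mul_apply, Module.End.mul_apply] at h1
  rw [h1]
  exact mem_eg.1 (prj_mem hz hc hc0 v)

theorem sum_prj (hp : 0 < p) {ζ : K} (hζ : IsPrimitiveRoot ζ p) (v : V) :
    ∑ a ∈ Finset.range p, prj p z (ζ ^ a) v = (p : K) • v := by
  have h0 : ζ ≠ 0 := hζ.ne_zero hp.ne'
  have h1 : ∀ a ∈ Finset.range p, prj p z (ζ ^ a) v = ∑ j ∈ Finset.range p, ((ζ⁻¹) ^ j) ^ a • (z ^ j) v := by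
    intro a _
    rw [prj, LinearMap.sum_apply]
    refine Finset.sum_congr rfl fun j _ => ?_
    rw [smul_pow, LinearMap.smul_apply, ← inv_pow, ← pow_mul, ← pow_mul, mul_comm]
  rw [Finset.sum_congr rfl h1, Finset.sum_comm]
  have h2 : ∀ j ∈ Finset.range p, ∑ a ∈ Finset.range p, ((ζ⁻¹) ^ j) ^ a • (z ^ j) v = if j = 0 then (p : K) • v else 0 := by
    intro j hj
    rw [← Finset.sum_smul]
    split_ifs with h
    · subst h
      simp
    · have h3 : ((ζ⁻¹) ^ j - 1) * ∑ a ∈ Finset.range p, ((ζ⁻¹) ^ j) ^ a = 0 := by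
        rw [mul_geom_sum, ← pow_mul, mul_comm, pow_mul, inv_pow, hζ.pow_eq_one, inv_one, one_pow, sub_self]
      rcases mul_eq_zero.1 h3 with h4 | h4
      · exfalso
        rw [sub_eq_zero, inv_pow, inv_eq_one] at h4
        exact hζ.pow_ne_one_of_pos_of_lt h (Finset.mem_range.1 hj) h4
      · rw [h4, zero_smul]
  rw [Finset.sum_congr rfl h2, Finset.sum_ite_eq' (Finset.range p) 0]
  rw [if_pos (Finset.mem_range.2 hp)]

/-- the projection to the eigenspace -/
noncomputable def pj (hz : z ^ p = 1) {c : K} (hc : c ^ p = 1) (hc0 : c ≠ 0) : V →ₗ[K] eg z c :=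
  (p : K)⁻¹ • (prj p z c).codRestrict (eg z c) (prj_mem hz hc hc0)

theorem pj_coe (hz : z ^ p = 1) {c : K} (hc : c ^ p = 1) (hc0 : c ≠ 0) (v : V) :
    (pj hz hc hc0 v : V) = (p : K)⁻¹ • prj p z c v := rfl

variable [FiniteDimensional K V]

/-- **the commutant is large** -/
theorem sum_sq_le (hp : p.Prime) {ζ : K} (hζ : IsPrimitiveRoot ζ p) (hz : z ^ p = 1) :
    (∑ a : Fin p, (finrank K (eg z (ζ ^ (a : ℕ)))) ^ 2 ≤ finrank K (com z)) ∧
      finrank K V ≤ ∑ a : Fin p, finrank K (eg z (ζ ^ (a : ℕ))) := by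
  have hne : NeZero p := ⟨hp.ne_zero⟩
  have hpK : (p : K) ≠ 0 := (IsPrimitiveRoot.neZero' hζ).out
  have h0 : ζ ≠ 0 := hζ.ne_zero hp.ne_zero
  have hc : ∀ a : Fin p, (ζ ^ (a : ℕ)) ^ p = 1 := fun a => by
    rw [← pow_mul, mul_comm, pow_mul, hζ.pow_eq_one, one_pow]
  have hc0 : ∀ a : Fin p, ζ ^ (a : ℕ) ≠ 0 := fun a => pow_ne_zero _ h0
  have hinj : ∀ a b : Fin p, a ≠ b → ζ ^ (a : ℕ) ≠ ζ ^ (b : ℕ) := fun a b hab h =>
    hab (Fin.ext (hζ.pow_inj a.2 b.2 h))
  constructor
  · let Θ : (∀ a : Fin p, Module.End K (eg z (ζ ^ (a : ℕ)))) →ₗ[K] com z :=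
      { toFun := fun M => ⟨∑ a : Fin p, (eg z (ζ ^ (a : ℕ))).subtype ∘ₗ M a ∘ₗ pj hz (hc a) (hc0 a), by
          rw [mem_com]
          refine LinearMap.ext fun v => ?_
          rw [Module.End.mul_apply, Module.End.mul_apply, LinearMap.sum_apply, LinearMap.sum_apply, map_sum]
          refine Finset.sum_congr rfl fun a _ => ?_
          rw [LinearMap.comp_apply, LinearMap.comp_apply, LinearMap.comp_apply, LinearMap.comp_apply]
          have h1 : pj hz (hc a) (hc0 a) (z v) = ζ ^ (a : ℕ) • pj hz (hc a) (hc0 a) v := by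
            apply Subtype.ext
            rw [Submodule.coe_smul, pj_coe, pj_coe, prj_map hz (hc a) (hc0 a), smul_comm]
          rw [h1, map_smul, map_smul]
          exact mem_eg.1 (Subtype.mem _)⟩
        map_add' := fun M N => by
          apply Subtype.ext
          rw [Submodule.coe_add]
          show (∑ a : Fin p, _) = (∑ a : Fin p, _) + ∑ a : Fin p, _
          rw [← Finset.sum_add_distrib]
          refine Finset.sum_congr rfl fun a _ => ?_
          rw [Pi.add_apply, LinearMap.add_comp, LinearMap.comp_add]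
        map_smul' := fun c M => by
          apply Subtype.ext
          rw [Submodule.coe_smul]
          show (∑ a : Fin p, _) = _ • (∑ a : Fin p, _)
          rw [Finset.smul_sum]
          refine Finset.sum_congr rfl fun a _ => ?_
          rw [Pi.smul_apply, LinearMap.smul_comp, LinearMap.comp_smul, RingHom.id_apply] }
    have hΘ : Function.Injective Θ := by
      rw [injective_iff_map_eq_zero]
      intro M hM
      funext a
      refine LinearMap.ext fun v => ?_
      have h1 : (∑ b : Fin p, (eg z (ζ ^ (b : ℕ))).subtype ∘ₗ M b ∘ₗ pj hz (hc b) (hc0 b)) (v : V) = 0 := by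
        have := congrArg Subtype.val hM
        exact LinearMap.congr_fun this (v : V)
      rw [LinearMap.sum_apply, Finset.sum_eq_single a] at h1
      · rw [LinearMap.comp_apply, LinearMap.comp_apply] at h1
        have h2 : pj hz (hc a) (hc0 a) (v : V) = v := by
          apply Subtype.ext
          rw [pj_coe, prj_self (hc0 a) v.2, smul_smul, inv_mul_cancel₀ hpK, one_smul]
        rw [h2] at h1
        exact Subtype.ext h1
      · intro b _ hb
        have h2 : pj hz (hc b) (hc0 b) (v : V) = 0 := by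
          apply Subtype.ext
          rw [pj_coe, prj_other (hc b) (hc a) (hc0 b) (hinj b a hb) v.2, smul_zero]
          rfl
        rw [LinearMap.comp_apply, LinearMap.comp_apply, h2, map_zero, map_zero]
      · intro h
        exact absurd (Finset.mem_univ a) h
    have h1 := LinearMap.finrank_le_finrank_of_injective hΘ
    rw [Module.finrank_pi_fintype] at h1
    refine le_trans (le_of_eq ?_) h1
    refine Finset.sum_congr rfl fun a _ => ?_
    rw [Module.finrank_linearMap, pow_two]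
  · let Θ : V →ₗ[K] (∀ a : Fin p, eg z (ζ ^ (a : ℕ))) := LinearMap.pi fun a => pj hz (hc a) (hc0 a)
    have hΘ : Function.Injective Θ := by
      rw [injective_iff_map_eq_zero]
      intro v hv
      have h1 := sum_prj (z := z) hp.pos hζ v
      rw [Finset.sum_range] at h1
      have h2 : ∀ a : Fin p, prj p z (ζ ^ (a : ℕ)) v = 0 := by
        intro a
        have h3 : pj hz (hc a) (hc0 a) v = 0 := congrFun hv a
        have h4 := congrArg Subtype.val h3
        rw [pj_coe] at h4
        exact (smul_eq_zero.1 h4).resolve_left (inv_ne_zero hpK)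
      rw [Finset.sum_eq_zero fun a _ => h2 a] at h1
      exact (smul_eq_zero.1 h1.symm).resolve_left hpK
    have h1 := LinearMap.finrank_le_finrank_of_injective hΘ
    rwa [Module.finrank_pi_fintype] at h1

/-- the lower bound for the commutant -/
theorem com_ge (hp : p.Prime) {ζ : K} (hζ : IsPrimitiveRoot ζ p) (hz : z ^ p = 1) :
    (p - 1) * (finrank K (LinearMap.ker (z - 1))) ^ 2 + (finrank K V - finrank K (LinearMap.ker (z - 1))) ^ 2 ≤
      (p - 1) * finrank K (com z) := by
  have hne : NeZero p := ⟨hp.ne_zero⟩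
  obtain ⟨h1, h2⟩ := sum_sq_le hp hζ hz
  set n : Fin p → ℕ := fun a => finrank K (eg z (ζ ^ (a : ℕ))) with hn
  have h3 : finrank K (LinearMap.ker (z - 1)) = n 0 := by
    have h30 : (((0 : Fin p) : ℕ)) = 0 := rfl
    have h31 : eg z (ζ ^ ((0 : Fin p) : ℕ)) = LinearMap.ker (z - 1) := by rw [h30, pow_zero, eg, one_smul]
    show _ = finrank K (eg z (ζ ^ ((0 : Fin p) : ℕ)))
    rw [h31]
  rw [h3]
  have h4 : ∑ a : Fin p, n a = n 0 + ∑ a ∈ Finset.univ.erase 0, n a := (Finset.add_sum_erase _ _ (Finset.mem_univ 0)).symm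
  have h5 : ∑ a : Fin p, n a ^ 2 = n 0 ^ 2 + ∑ a ∈ Finset.univ.erase 0, n a ^ 2 :=
    (Finset.add_sum_erase _ (fun a => n a ^ 2) (Finset.mem_univ 0)).symm
  have h6 : (∑ a ∈ Finset.univ.erase (0 : Fin p), n a) ^ 2 ≤ (p - 1) * ∑ a ∈ Finset.univ.erase (0 : Fin p), n a ^ 2 := by
    have := sq_sum_le_card_mul_sum_sq (s := Finset.univ.erase (0 : Fin p)) (f := n)
    rwa [Finset.card_erase_of_mem (Finset.mem_univ _), Finset.card_univ, Fintype.card_fin] at this
  have h7 : finrank K V - n 0 ≤ ∑ a ∈ Finset.univ.erase (0 : Fin p), n a := by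
    have h8 : finrank K V ≤ ∑ a : Fin p, n a := h2
    omega
  calc (p - 1) * n 0 ^ 2 + (finrank K V - n 0) ^ 2 ≤ (p - 1) * n 0 ^ 2 + (∑ a ∈ Finset.univ.erase (0 : Fin p), n a) ^ 2 := by
        gcongr
    _ ≤ (p - 1) * n 0 ^ 2 + (p - 1) * ∑ a ∈ Finset.univ.erase (0 : Fin p), n a ^ 2 := by gcongr
    _ = (p - 1) * ∑ a : Fin p, n a ^ 2 := by rw [h5]; ring
    _ ≤ _ := by gcongr

end Cfsg.Agent.H447.RC
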