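import Cfsg.Agent.H447.RC.Wt

/-!
# S4191 [FIX], part 3: dimensions (helper447)
-/

set_option autoImplicit false
set_option linter.unusedSectionVars false

namespace Cfsg.Agent.H447.RC

open Module

variable {K V G : Type*} [Field K] [AddCommGroup V] [Module K V] [Group G] [Finite G] [FiniteDimensional K V]
  [Nontrivial V] {ρ : G →* Module.End K V} {A S : Subgroup G} (D : Dat ρ A S)

include D

theorem Dat.mul_mem_ws {x x' : G} (hx : x ∈ S) (hx' : x' ∈ S) {T : Module.End K V} (hT : T ∈ ws ρ S x') :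
    ρ x * T ∈ ws ρ S (x * x') := by
  intro y hy
  rw [cj_map_mul, D.cj_eq hx hy, hT y hy, D.bb_mul_right hx hx' hy, smul_mul_smul_comm]

theorem Dat.finrank_ws_le {x x' : G} (hx : x ∈ S) (hx' : x' ∈ S) :
    finrank K (ws ρ S x') ≤ finrank K (ws ρ S (x * x')) := by
  let Θ : ws ρ S x' →ₗ[K] ws ρ S (x * x') :=
    ((LinearMap.mulLeft K (ρ x)).comp (ws ρ S x').subtype).codRestrict _ fun T => D.mul_mem_ws hx hx' T.2
  refine LinearMap.finrank_le_finrank_of_injective (f := Θ) ?_
  rw [injective_iff_map_eq_zero]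
  intro T hT
  have h1 : ρ x * (T : Module.End K V) = 0 := congrArg Subtype.val hT
  apply Subtype.ext
  have h2 : (T : Module.End K V) = ρ x⁻¹ * (ρ x * T) := by rw [← mul_assoc, rho_inv', one_mul]
  rw [h2, h1, mul_zero]
  rfl

theorem Dat.finrank_ws {x : G} (hx : x ∈ S) : finrank K (ws ρ S x) = finrank K (ws ρ S 1) := by
  apply le_antisymm
  · have h := D.finrank_ws_le (S.inv_mem hx) hx
    rwa [inv_mul_cancel] at h
  · have h := D.finrank_ws_le hx S.one_mem
    rwa [mul_one] at h

theorem Dat.card_A_ne : (Nat.card A : K) ≠ 0 := by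
  obtain ⟨m, hm⟩ := Subgroup.card_dvd_of_le D.le
  intro h
  apply D.card
  rw [hm, Nat.cast_mul, h, zero_mul]

theorem Dat.eq_zero {T : Module.End K V} [Fintype S] (h : ∀ x ∈ S, wp ρ S x T = 0) : T = 0 := by
  have h1 := D.sum_wp T
  rw [Finset.sum_eq_zero (s := Finset.univ) (f := fun x : S => wp ρ S x T) fun x _ => h x x.2] at h1
  exact (smul_eq_zero.1 h1.symm).resolve_left (mul_ne_zero D.card D.card_A_ne)

variable [A.Normal]

omit D in
/-- `S / A` -/
abbrev XX (A S : Subgroup G) [A.Normal] : Subgroup (G ⧸ A) := S.map (QuotientGroup.mk' A)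

omit D [Finite G] in
theorem exists_rep (x : XX A S) : ∃ s ∈ S, (QuotientGroup.mk s : G ⧸ A) = x := by
  obtain ⟨s, hs, h⟩ := x.2
  exact ⟨s, hs, h⟩

/-- the order of `S / A` times the dimension of the commutant of `S` is at most `d²` -/
theorem Dat.card_mul_le : Nat.card (XX A S) * finrank K (ws ρ S 1) ≤ finrank K V ^ 2 := by
  classical
  have := Fintype.ofFinite G
  choose r hr hr' using fun x : XX A S => exists_rep x
  let Θ : (∀ x : XX A S, ws ρ S (r x)) →ₗ[K] Module.End K V :=
    ∑ x : XX A S, (ws ρ S (r x)).subtype ∘ₗ LinearMap.proj x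
  have hΘ : Function.Injective Θ := by
    rw [injective_iff_map_eq_zero]
    intro T hT
    funext x
    have h1 : wp ρ S (r x) (Θ T) = ∑ y : XX A S, wp ρ S (r x) (T y) := by
      have h0 : Θ T = ∑ y : XX A S, (T y : Module.End K V) := by
        show (∑ x : XX A S, (ws ρ S (r x)).subtype ∘ₗ LinearMap.proj x) T = _
        rw [LinearMap.sum_apply]
        rfl
      rw [h0, map_sum]
    rw [hT, map_zero, Finset.sum_eq_single x] at h1
    · rw [D.wp_of_mem (hr x) (hr x) (T x).2, inv_mul_cancel, D.sum_left_A A.one_mem] at h1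
      exact Subtype.ext ((smul_eq_zero.1 h1.symm).resolve_left D.card)
    · intro y _ hy
      rw [D.wp_of_mem (hr y) (hr x) (T y).2, D.sum_left (S.mul_mem (S.inv_mem (hr x)) (hr y)), zero_smul]
      intro hmem
      apply hy
      apply Subtype.ext
      rw [← hr' x, ← hr' y]
      exact (QuotientGroup.eq.2 hmem).symm
    · intro h
      exact absurd (Finset.mem_univ x) h
  have h1 := LinearMap.finrank_le_finrank_of_injective hΘ
  rw [Module.finrank_pi_fintype, Module.finrank_linearMap, ← pow_two,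
    Finset.sum_congr rfl fun x _ => D.finrank_ws (hr x), Finset.sum_const, smul_eq_mul, Finset.card_univ,
    ← Nat.card_eq_fintype_card] at h1
  exact h1

omit D in
/-- the action of `z` on `S / A` -/
def act (A S : Subgroup G) [A.Normal] [S.Normal] (z : G) : Subgroup.zpowers z →* MulAut (XX A S) :=
  haveI : (XX A S).Normal := Subgroup.Normal.map inferInstance _ (QuotientGroup.mk'_surjective A)
  (MulAut.conjNormal (H := XX A S)).comp ((QuotientGroup.mk' A).comp (Subgroup.zpowers z).subtype)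

omit D [Finite G] in
theorem act_apply [S.Normal] (z : G) (g : Subgroup.zpowers z) (x : XX A S) {s : G}
    (h : (QuotientGroup.mk s : G ⧸ A) = x) : ((act A S z g x : XX A S) : G ⧸ A) = QuotientGroup.mk ((g : G) * s * (g : G)⁻¹) := by
  have : (XX A S).Normal := Subgroup.Normal.map inferInstance _ (QuotientGroup.mk'_surjective A)
  have h1 : ((act A S z g x : XX A S) : G ⧸ A) = QuotientGroup.mk (g : G) * (x : G ⧸ A) * (QuotientGroup.mk (g : G))⁻¹ :=
    MulAut.conjNormal_apply _ _
  rw [h1, ← h]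
  rfl

omit D in
/-- the orbits of `z` on `S / A` -/
abbrev Orb (A S : Subgroup G) [A.Normal] [S.Normal] (z : G) : Type _ :=
  @MulAction.orbitRel.Quotient (Subgroup.zpowers z) (XX A S) _ (MulAction.compHom _ (act A S z))

theorem Dat.finrank_com_le [S.Normal] (z : G) :
    finrank K (com (ρ z)) ≤ Nat.card (Orb A S z) * finrank K (ws ρ S 1) := by
  classical
  have := Fintype.ofFinite G
  let _ : MulAction (Subgroup.zpowers z) (XX A S) := MulAction.compHom _ (act A S z)
  have hsm : ∀ (g : Subgroup.zpowers z) (x : XX A S), g • x = act A S z g x := fun g x => rfl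
  choose r hr hr' using fun x : XX A S => exists_rep x
  have := Fintype.ofFinite (Orb A S z)
  let Θ : com (ρ z) →ₗ[K] (∀ ω : Orb A S z, ws ρ S (r ω.out)) :=
    LinearMap.pi fun ω => (((wp ρ S (r ω.out)).comp (com (ρ z)).subtype).codRestrict _ fun T =>
      D.wp_mem (hr ω.out) (T : Module.End K V))
  have hΘ : Function.Injective Θ := by
    rw [injective_iff_map_eq_zero]
    intro T hT
    apply Subtype.ext
    apply D.eq_zero
    have hz1 : cj ρ z (T : Module.End K V) = T := by
      have h1 : ρ z * (T : Module.End K V) = T * ρ z := T.2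
      rw [cj_apply, h1, mul_assoc, rho_inv, mul_one]
    have hz2 : ∀ g ∈ Subgroup.zpowers z, cj ρ g (T : Module.End K V) = T := by
      intro g hg
      let Z : Subgroup G :=
        { carrier := {g | cj ρ g (T : Module.End K V) = T}
          one_mem' := cj_one ρ _
          mul_mem' := fun {a b} ha hb => by
            have ha' : cj ρ a (T : Module.End K V) = T := ha
            have hb' : cj ρ b (T : Module.End K V) = T := hb
            show cj ρ (a * b) _ = _
            rw [cj_mul, hb', ha']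
          inv_mem' := fun {a} ha => by
            have ha' : cj ρ a (T : Module.End K V) = T := ha
            show cj ρ a⁻¹ _ = _
            conv_lhs => rw [← ha']
            rw [← cj_mul, inv_mul_cancel, cj_one] }
      have h2 : Subgroup.zpowers z ≤ Z := by
        rw [Subgroup.zpowers_le]
        exact hz1
      exact h2 hg
    intro x hx
    let x' : XX A S := ⟨QuotientGroup.mk x, ⟨x, hx, rfl⟩⟩
    let ω : Orb A S z := Quotient.mk'' x'
    have h3 : ∃ g : Subgroup.zpowers z, g • ω.out = x' := by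
      obtain ⟨g, hg⟩ := Quotient.eq''.1 (Quotient.out_eq' ω)
      refine ⟨g⁻¹, ?_⟩
      rw [← hg]
      exact inv_smul_smul g x'
    obtain ⟨g, hg⟩ := h3
    have h4 : act A S z g ω.out = x' := hg
    have h5 := act_apply z g ω.out (hr' ω.out)
    rw [h4] at h5
    have h6 : ((g : G) * r ω.out * (g : G)⁻¹)⁻¹ * x ∈ A := QuotientGroup.eq.1 h5.symm
    have h7 : x = ((g : G) * r ω.out * (g : G)⁻¹) * (((g : G) * r ω.out * (g : G)⁻¹)⁻¹ * x) := by group
    rw [h7, D.wp_A (D.Sn.conj_mem _ (hr _) _) h6, D.wp_conj (hr _) (g : G) (hz2 g g.2)]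
    have h8 : wp ρ S (r ω.out) (T : Module.End K V) = 0 := by
      have := congrFun hT ω
      exact congrArg Subtype.val this
    rw [h8, map_zero]
  have h1 := LinearMap.finrank_le_finrank_of_injective hΘ
  rw [Module.finrank_pi_fintype, Finset.sum_congr rfl fun ω _ => D.finrank_ws (hr _), Finset.sum_const, smul_eq_mul,
    Finset.card_univ, ← Nat.card_eq_fintype_card] at h1
  exact h1

omit D [Nontrivial V] [FiniteDimensional K V] in
/-- Burnside -/
theorem card_Orb [S.Normal] {p : ℕ} (hp : p.Prime) {z : G} (hz : orderOf z = p) {Y : Subgroup G}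
    (hY : ∀ s, s ∈ Y ↔ s ∈ S ∧ z * s * z⁻¹ * s⁻¹ ∈ A) :
    p * Nat.card (Orb A S z) = Nat.card (XX A S) + (p - 1) * Nat.card (Y.map (QuotientGroup.mk' A)) := by
  classical
  have := Fintype.ofFinite G
  let _ : MulAction (Subgroup.zpowers z) (XX A S) := MulAction.compHom _ (act A S z)
  have := Fintype.ofFinite (Orb A S z)
  have hsm : ∀ (g : Subgroup.zpowers z) (x : XX A S), g • x = act A S z g x := fun g x => rfl
  have hcard : Fintype.card (Subgroup.zpowers z) = p := by rw [Fintype.card_zpowers, hz]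
  have h1 := MulAction.sum_card_fixedBy_eq_card_orbits_mul_card_group (Subgroup.zpowers z) (XX A S)
  rw [hcard, mul_comm, ← Nat.card_eq_fintype_card] at h1
  rw [← h1, ← Finset.add_sum_erase _ _ (Finset.mem_univ (1 : Subgroup.zpowers z))]
  have h2 : Fintype.card (MulAction.fixedBy (XX A S) (1 : Subgroup.zpowers z)) = Nat.card (XX A S) := by
    rw [Nat.card_eq_fintype_card]
    refine Fintype.card_congr (Equiv.subtypeUnivEquiv fun x => ?_)
    exact one_smul _ x
  have h3 : ∀ g ∈ Finset.univ.erase (1 : Subgroup.zpowers z), Fintype.card (MulAction.fixedBy (XX A S) g) =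
      Nat.card (Y.map (QuotientGroup.mk' A)) := by
    intro g hg
    have hg1 : (g : G) ≠ 1 := fun h => (Finset.mem_erase.1 hg).1 (Subtype.ext h)
    have hzg : z ∈ Subgroup.zpowers (g : G) := by
      have h4 : orderOf (g : G) = p := by
        have h5 : orderOf (g : G) ∣ p := by
          rw [← hz]
          exact orderOf_dvd_of_mem_zpowers g.2
        exact (hp.eq_one_or_self_of_dvd _ h5).resolve_left (fun h => hg1 (orderOf_eq_one_iff.1 h))
      have h6 : Subgroup.zpowers (g : G) = Subgroup.zpowers z := by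
        apply Subgroup.eq_of_le_of_card_ge
        · rw [Subgroup.zpowers_le]
          exact g.2
        · rw [Nat.card_zpowers, Nat.card_zpowers, h4, hz]
      rw [h6]
      exact Subgroup.mem_zpowers z
    rw [← Nat.card_eq_fintype_card]
    have key : ∀ x : XX A S, x ∈ MulAction.fixedBy (XX A S) g ↔ (x : G ⧸ A) ∈ Y.map (QuotientGroup.mk' A) := by
      intro x
      obtain ⟨s, hs, hsx⟩ := exists_rep x
      have h7 : x ∈ MulAction.fixedBy (XX A S) g ↔ Commute (QuotientGroup.mk (g : G) : G ⧸ A) x := by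
        rw [MulAction.mem_fixedBy, hsm, Subtype.ext_iff, act_apply z g x hsx, ← hsx]
        rw [commute_iff_eq]
        show (QuotientGroup.mk (g : G) : G ⧸ A) * QuotientGroup.mk s * (QuotientGroup.mk (g : G))⁻¹ = _ ↔ _
        rw [mul_inv_eq_iff_eq_mul]
      have h8 : Commute (QuotientGroup.mk (g : G) : G ⧸ A) x ↔ Commute (QuotientGroup.mk z : G ⧸ A) x := by
        constructor
        · intro h
          obtain ⟨k, hk⟩ := Subgroup.mem_zpowers_iff.1 hzg
          rw [← hk]
          exact h.zpow_left k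
        · intro h
          obtain ⟨k, hk⟩ := Subgroup.mem_zpowers_iff.1 g.2
          rw [← hk]
          exact h.zpow_left k
      have h9 : Commute (QuotientGroup.mk z : G ⧸ A) x ↔ z * s * z⁻¹ * s⁻¹ ∈ A := by
        rw [← hsx, commute_iff_eq, ← mul_inv_eq_one, mul_inv_rev, ← mul_assoc]
        exact QuotientGroup.eq_one_iff (N := A) (z * s * z⁻¹ * s⁻¹)
      rw [h7, h8, h9]
      constructor
      · intro h
        exact ⟨s, (hY s).2 ⟨hs, h⟩, hsx⟩
      · rintro ⟨t, ht, htx⟩
        obtain ⟨ht1, ht2⟩ := (hY t).1 ht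
        have h10 : Commute (QuotientGroup.mk z : G ⧸ A) x := by
          rw [← htx, commute_iff_eq, ← mul_inv_eq_one, mul_inv_rev, ← mul_assoc]
          exact (QuotientGroup.eq_one_iff (N := A) (z * t * z⁻¹ * t⁻¹)).2 ht2
        exact h9.1 h10
    have hYS : Y.map (QuotientGroup.mk' A) ≤ XX A S := Subgroup.map_mono fun s hs => ((hY s).1 hs).1
    refine Nat.card_congr ⟨fun x => ⟨x.1, (key x.1).1 x.2⟩, fun y => ⟨⟨y.1, hYS y.2⟩, (key _).2 y.2⟩, fun _ => rfl,
      fun _ => rfl⟩
  rw [h2, Finset.sum_congr rfl h3, Finset.sum_const, smul_eq_mul, Finset.card_erase_of_mem (Finset.mem_univ _),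
    Finset.card_univ, hcard]

/-- **the main inequality** over a field with `p`-th roots of unity -/
theorem Dat.main {p : ℕ} (hp : p.Prime) {ζ : K} (hζ : IsPrimitiveRoot ζ p) {z : G} (hz : orderOf z = p)
    {Y : Subgroup G} (hY : ∀ s, s ∈ Y ↔ s ∈ S ∧ z * s * z⁻¹ * s⁻¹ ∈ A) {e k : ℕ} (he : Nat.card (XX A S) = e ^ 2)
    (hk : Nat.card (Y.map (QuotientGroup.mk' A)) ≤ k ^ 2) :
    p * e * finrank K (LinearMap.ker (ρ z - 1)) ≤ finrank K V * (e + (p - 1) * k) := by
  have hSn := D.Sn
  have h1 := com_ge hp hζ (z := ρ z) (by rw [← map_pow, ← hz, pow_orderOf_eq_one, map_one])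
  have h2 := D.finrank_com_le z
  have h3 := D.card_mul_le
  have h4 : p * Nat.card (Orb A S z) ≤ e ^ 2 + (p - 1) * k ^ 2 := by
    rw [card_Orb hp hz hY, he]
    exact Nat.add_le_add_left (Nat.mul_le_mul_left _ hk) _
  rw [he] at h3
  set n := finrank K (LinearMap.ker (ρ z - 1)) with hn
  set d := finrank K V with hd
  set f := finrank K (com (ρ z)) with hf
  set γ := finrank K (ws ρ S 1) with hγ
  set o := Nat.card (Orb A S z) with ho
  have hnd : n ≤ d := Submodule.finrank_le _
  obtain ⟨m, hm⟩ : ∃ m, d = n + m := ⟨d - n, by omega⟩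
  obtain ⟨t, rfl⟩ : ∃ t, p = t + 1 := ⟨p - 1, by have := hp.one_lt; omega⟩
  rw [Nat.add_sub_cancel] at h1 h4 ⊢
  have h5 : d - n = m := by omega
  rw [h5] at h1
  -- pass to integers
  have g1 : (t : ℤ) * n ^ 2 + m ^ 2 ≤ t * f := by exact_mod_cast h1
  have g2 : (f : ℤ) ≤ o * γ := by exact_mod_cast h2
  have g3 : (e : ℤ) ^ 2 * γ ≤ d ^ 2 := by exact_mod_cast h3
  have g4 : ((t : ℤ) + 1) * o ≤ e ^ 2 + t * k ^ 2 := by exact_mod_cast h4
  have g5 : (d : ℤ) = n + m := by exact_mod_cast hm
  have hkey : ((e : ℤ) * ((t + 1) * n - d)) ^ 2 ≤ (t * k * d) ^ 2 := by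
    have a1 : (e : ℤ) ^ 2 * (t + 1) * (t * n ^ 2 + m ^ 2) ≤ (e : ℤ) ^ 2 * (t + 1) * (t * (o * γ)) :=
      mul_le_mul_of_nonneg_left (g1.trans (mul_le_mul_of_nonneg_left g2 (by positivity))) (by positivity)
    have a2 : (e : ℤ) ^ 2 * (t + 1) * (t * (o * γ)) ≤ t * ((e : ℤ) ^ 2 + t * k ^ 2) * ((e : ℤ) ^ 2 * γ) := by
      have a20 : (e : ℤ) ^ 2 * (t + 1) * (t * (o * γ)) = t * ((t + 1) * o) * ((e : ℤ) ^ 2 * γ) := by ring
      rw [a20]
      exact mul_le_mul_of_nonneg_right (mul_le_mul_of_nonneg_left g4 (by positivity)) (by positivity)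
    have a3 : t * ((e : ℤ) ^ 2 + t * k ^ 2) * ((e : ℤ) ^ 2 * γ) ≤ t * ((e : ℤ) ^ 2 + t * k ^ 2) * (d : ℤ) ^ 2 :=
      mul_le_mul_of_nonneg_left g3 (by positivity)
    have a4 : (e : ℤ) ^ 2 * (t + 1) * (t * n ^ 2 + m ^ 2) ≤ t * ((e : ℤ) ^ 2 + t * k ^ 2) * (d : ℤ) ^ 2 :=
      a1.trans (a2.trans a3)
    have a5 : ((e : ℤ) * ((t + 1) * n - d)) ^ 2 = (e : ℤ) ^ 2 * (t + 1) * (t * n ^ 2 + m ^ 2) - t * (e : ℤ) ^ 2 * d ^ 2 := by
      rw [g5]; ring
    rw [a5]
    linarith
  have h6 : (e : ℤ) * ((t + 1) * n - d) ≤ t * k * d := by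
    apply abs_le_of_sq_le_sq' hkey (by positivity) |>.2
  have h7 : ((t : ℤ) + 1) * e * n ≤ d * (e + t * k) := by linarith
  exact_mod_cast h7

end Cfsg.Agent.H447.RC
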